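import Groth.Agent.SymFree12.Basic

/-! The staircase monomials form a basis of the universal splitting algebra. -/

set_option autoImplicit false

universe u

namespace Groth.Agent.SymFree12

/-- The exponent vectors below the staircase. -/
abbrev Stair (r : ℕ) : Type := Π i : Fin r, Fin (r - (i : ℕ))

/-- Splitting the first exponent off. -/
def stairEquiv (r : ℕ) : Fin (r + 1) × Stair r ≃ Stair (r + 1) :=
  (Equiv.prodCongr (finCongr (by simp))
      (Equiv.piCongrRight fun i : Fin r => finCongr (by simp [Fin.val_succ]))).trans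
    (Fin.consEquiv fun i : Fin (r + 1) => Fin (r + 1 - (i : ℕ)))

theorem stairEquiv_zero (r : ℕ) (p : Fin (r + 1) × Stair r) :
    ((stairEquiv r p) 0 : ℕ) = p.1 := by
  simp [stairEquiv, Fin.consEquiv]

theorem stairEquiv_succ (r : ℕ) (p : Fin (r + 1) × Stair r) (i : Fin r) :
    ((stairEquiv r p) i.succ : ℕ) = p.2 i := by
  simp [stairEquiv, Fin.consEquiv]

theorem smul_eq {R : Type u} [CommRing R] {r : ℕ} {a : Fin r → R} (s : R) (x : Q R r a) :
    s • x = algebraMap R (Q R r a) s * x := by
  induction x using Quotient.inductionOn'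
  next x => exact congrArg (Ideal.Quotient.mk _) (MvPolynomial.smul_eq_C_mul x s)

theorem tailEquiv_symm_apply {R : Type u} [CommRing R] {r : ℕ} (a : Fin (r + 1) → R)
    (i : Fin r) : (tailEquiv a).symm (U (a := b' a) i) = U (a := a) i.succ := by
  rw [AlgEquiv.symm_apply_eq]
  change U i = toTail a (U i.succ)
  rw [toTail, lift_U, Fin.cases_succ]

theorem tailEquiv_symm_root {R : Type u} [CommRing R] {r : ℕ} (a : Fin (r + 1) → R) :
    (tailEquiv a).symm (algebraMap (AdjoinRoot (poly a)) (Q (AdjoinRoot (poly a)) r (b' a))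
      (AdjoinRoot.root (poly a))) = U (a := a) 0 := by
  rw [AlgEquiv.symm_apply_eq]
  change _ = toTail a (U 0)
  rw [toTail, lift_U, Fin.cases_zero]

/-- The monomials below the staircase form a basis. -/
theorem exists_stair_basis : ∀ (r : ℕ) {R : Type u} [CommRing R] [Nontrivial R] (a : Fin r → R),
    ∃ B : Module.Basis (Stair r) R (Q R r a), ∀ d, B d = ∏ i, U (a := a) i ^ (d i : ℕ) := by
  intro r
  induction r with
  | zero =>
    intro R _ _ a
    have hbot : rel R 0 a = ⊥ := by simp [rel]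
    let e : Q R 0 a ≃ₐ[R] R :=
      ((Ideal.quotientEquivAlgOfEq R hbot).trans (AlgEquiv.quotientBot R (MvPolynomial (Fin 0) R))).trans
        (MvPolynomial.isEmptyAlgEquiv R (Fin 0))
    refine ⟨(Module.Basis.singleton (Stair 0) R).map e.toLinearEquiv.symm, fun d => ?_⟩
    rw [Module.Basis.map_apply, Module.Basis.singleton_apply, Fin.prod_univ_zero]
    exact map_one e.symm
  | succ r ih =>
    intro R _ _ a
    let pb := AdjoinRoot.powerBasis' (poly_monic a)
    have hdim : pb.dim = r + 1 := by simp [pb, poly_natDegree]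
    haveI : Nontrivial (AdjoinRoot (poly a)) :=
      ⟨⟨_, _, pb.basis.ne_zero ⟨0, by omega⟩⟩⟩
    obtain ⟨B, hB⟩ := ih (b' a)
    refine ⟨(((pb.basis.smulTower B).map (tailEquiv a).toLinearEquiv.symm).reindex
      (((finCongr hdim).prodCongr (Equiv.refl _)).trans (stairEquiv r))), fun d => ?_⟩
    obtain ⟨⟨j, d'⟩, rfl⟩ :=
      (((finCongr hdim).prodCongr (Equiv.refl _)).trans (stairEquiv r)).surjective d
    rw [Module.Basis.reindex_apply, Equiv.symm_apply_apply, Module.Basis.map_apply,
      Module.Basis.smulTower_apply, hB, pb.basis_eq_pow, Fin.prod_univ_succ]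
    have hgen : pb.gen = AdjoinRoot.root (poly a) := by simp [pb]
    refine (congrArg (tailEquiv a).symm (smul_eq _ _)).trans ?_
    rw [map_mul, map_prod, map_pow, map_pow, hgen, tailEquiv_symm_root]
    simp only [map_pow, tailEquiv_symm_apply, Equiv.trans_apply, Equiv.prodCongr_apply, Prod.map,
      Equiv.coe_refl, id_eq, stairEquiv_zero, stairEquiv_succ, finCongr_apply, Fin.val_cast]

end Groth.Agent.SymFree12

namespace Groth.Agent.SymFree12

variable {R : Type u} [CommRing R] {r : ℕ} {a : Fin r → R}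

theorem mk_stair_sum (α : Stair r → R) :
    Ideal.Quotient.mk (rel R r a)
        (∑ d : Stair r, MvPolynomial.C (α d) * ∏ i, MvPolynomial.X i ^ ((d i : ℕ))) =
      ∑ d : Stair r, algebraMap R (Q R r a) (α d) * ∏ i, U (a := a) i ^ ((d i : ℕ)) := by
  rw [map_sum]
  refine Finset.sum_congr rfl fun d _ => ?_
  rw [map_mul, map_prod]
  simp only [map_pow]
  rfl

theorem mem_sup_iff (J : Ideal R) (x : MvPolynomial (Fin r) R) :
    x ∈ rel R r a ⊔ Ideal.map (MvPolynomial.C : R →+* MvPolynomial (Fin r) R) J ↔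
      Ideal.Quotient.mk (rel R r a) x ∈ Ideal.map (algebraMap R (Q R r a)) J := by
  rw [show algebraMap R (Q R r a) = (Ideal.Quotient.mk (rel R r a)).comp MvPolynomial.C from rfl,
    ← Ideal.map_map, Ideal.mem_quotient_iff_mem_sup, sup_comm]

/-- Coordinates of an element of `J·Q` lie in `J`. -/
theorem repr_mem {ι : Type*} {S : Type*} [CommRing S] [Algebra R S] (B : Module.Basis ι R S)
    (J : Ideal R) {y : S} (hy : y ∈ Ideal.map (algebraMap R S) J) (d : ι) : B.repr y d ∈ J := by
  have h : y ∈ J • (⊤ : Submodule R S) := by rw [Ideal.smul_top_eq_map]; exact hy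
  refine Submodule.smul_induction_on (p := fun z => B.repr z d ∈ J) h (fun c hc z _ => ?_)
    fun z w hz hw => ?_
  · simpa using J.mul_mem_right _ hc
  · simpa using J.add_mem hz hw

theorem sum_sub_mem_iff (J : Ideal R) (α β : Stair r → R) :
    (∑ d : Stair r, MvPolynomial.C (α d) * ∏ i, MvPolynomial.X i ^ ((d i : ℕ))) -
        (∑ d : Stair r, MvPolynomial.C (β d) * ∏ i, MvPolynomial.X i ^ ((d i : ℕ)))
      ∈ rel R r a ⊔ Ideal.map (MvPolynomial.C : R →+* MvPolynomial (Fin r) R) J
    ↔ ∀ d : Stair r, α d - β d ∈ J := by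
  rcases subsingleton_or_nontrivial R with hR | hR
  · exact iff_of_true (by rw [Subsingleton.elim (_ - _) (0 : MvPolynomial (Fin r) R)]; exact zero_mem _)
      fun d => by rw [Subsingleton.elim (α d - β d) 0]; exact zero_mem _
  obtain ⟨B, hB⟩ := exists_stair_basis r a
  rw [mem_sup_iff, map_sub, mk_stair_sum, mk_stair_sum, ← Finset.sum_sub_distrib]
  simp only [← sub_mul, ← map_sub]
  constructor
  · intro h d
    have e : ∑ d : Stair r, algebraMap R (Q R r a) (α d - β d) * ∏ i, U (a := a) i ^ ((d i : ℕ)) =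
        ∑ d : Stair r, (α d - β d) • B d :=
      Finset.sum_congr rfl fun d _ => by rw [hB, smul_eq]
    rw [e] at h
    have := repr_mem B J h d
    rwa [B.repr_sum_self] at this
  · exact fun h => Ideal.sum_mem _ fun d _ =>
      Ideal.mul_mem_right _ _ (Ideal.mem_map_of_mem _ (h d))

theorem mem_sup_iff_exists (J : Ideal R) (x : MvPolynomial (Fin r) R) :
    x ∈ rel R r a ⊔ Ideal.map (MvPolynomial.C : R →+* MvPolynomial (Fin r) R) J
    ↔ ∃ j : Stair r → R, (∀ d, j d ∈ J) ∧
        x - (∑ d : Stair r, MvPolynomial.C (j d) * ∏ i, MvPolynomial.X i ^ ((d i : ℕ))) ∈ rel R r a := by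
  constructor
  · intro h
    rcases subsingleton_or_nontrivial R with hR | hR
    · exact ⟨0, fun _ => zero_mem _, by
        rw [Subsingleton.elim (x - _) (0 : MvPolynomial (Fin r) R)]; exact zero_mem _⟩
    obtain ⟨B, hB⟩ := exists_stair_basis r a
    rw [mem_sup_iff] at h
    refine ⟨fun d => B.repr (Ideal.Quotient.mk (rel R r a) x) d, fun d => repr_mem B J h d, ?_⟩
    rw [← Ideal.Quotient.eq, mk_stair_sum]
    refine (B.sum_repr _).symm.trans (Finset.sum_congr rfl fun d _ => ?_)
    rw [hB, smul_eq]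
  · rintro ⟨j, hj, hx⟩
    rw [← sub_add_cancel x (∑ d : Stair r, MvPolynomial.C (j d) * ∏ i, MvPolynomial.X i ^ ((d i : ℕ)))]
    exact Ideal.add_mem _ (Ideal.mem_sup_left hx) (Ideal.mem_sup_right
      (Ideal.sum_mem _ fun d _ => Ideal.mul_mem_right _ _ (Ideal.mem_map_of_mem _ (hj d))))

/-- The generic splitting algebra is the polynomial ring. -/
theorem stair_bijective (n : ℕ) :
    Function.Bijective (fun p : Stair n → MvPolynomial (Fin n) ℤ =>
      ∑ d : Stair n,
        (MvPolynomial.aeval (fun i : Fin n => MvPolynomial.esymm (Fin n) ℤ ((i : ℕ) + 1))) (p d) *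
          ∏ i : Fin n, MvPolynomial.X i ^ ((d i : ℕ))) := by
  let f : MvPolynomial (Fin n) ℤ →ₐ[ℤ] MvPolynomial (Fin n) ℤ :=
    MvPolynomial.aeval (fun i : Fin n => MvPolynomial.esymm (Fin n) ℤ ((i : ℕ) + 1))
  let a : Fin n → MvPolynomial (Fin n) ℤ := MvPolynomial.X
  obtain ⟨B, hB⟩ := exists_stair_basis n a
  let Φ : Q (MvPolynomial (Fin n) ℤ) n a →+* MvPolynomial (Fin n) ℤ :=
    Ideal.Quotient.lift _ (MvPolynomial.eval₂Hom f.toRingHom MvPolynomial.X) (by
      change rel (MvPolynomial (Fin n) ℤ) n a ≤ RingHom.ker (MvPolynomial.eval₂Hom f.toRingHom _)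
      rw [rel, Ideal.span_le]
      rintro _ ⟨i, rfl⟩
      rw [SetLike.mem_coe, RingHom.mem_ker, map_sub, MvPolynomial.eval₂Hom_C, sub_eq_zero]
      rw [MvPolynomial.esymm, map_sum]
      simp [f, a, MvPolynomial.esymm])
  let Ψ : MvPolynomial (Fin n) ℤ →+* Q (MvPolynomial (Fin n) ℤ) n a :=
    (MvPolynomial.aeval (U (a := a))).toRingHom
  have hC : ∀ c, Φ (algebraMap _ _ c) = f c := fun c => by
    change Φ (Ideal.Quotient.mk _ (MvPolynomial.C c)) = _
    simp [Φ]
  have hU : ∀ i, Φ (U i) = MvPolynomial.X i := fun i => by simp [Φ, U]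
  have h1 : ∀ y, Φ (Ψ y) = y := fun y => by
    have : Φ.comp Ψ = RingHom.id _ := MvPolynomial.ringHom_ext (fun z => by simp)
      fun i => by simp [Ψ, hU]
    exact RingHom.congr_fun this y
  have h2 : ∀ y, Ψ (Φ y) = y := fun y => by
    have : Ψ.comp Φ = RingHom.id _ := by
      refine Ideal.Quotient.ringHom_ext (MvPolynomial.ringHom_ext (fun c => ?_) fun i => ?_)
      · have hc : (Ψ.comp f.toRingHom) = algebraMap (MvPolynomial (Fin n) ℤ) _ := by
          refine MvPolynomial.ringHom_ext (fun z => by simp [f, Ψ]) fun i => ?_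
          simp only [RingHom.comp_apply, AlgHom.toRingHom_eq_coe, RingHom.coe_coe, f, Ψ,
            MvPolynomial.aeval_X, MvPolynomial.aeval_esymm_eq_multiset_esymm]
          exact E_U (a := a) i
        exact (congrArg Ψ (hC c)).trans (RingHom.congr_fun hc c)
      · change Ψ (Φ (U i)) = U i
        rw [hU]
        simp [Ψ]
    exact RingHom.congr_fun this y
  have hbij : Function.Bijective Φ := Function.bijective_iff_has_inverse.mpr ⟨Ψ, h2, h1⟩
  have := hbij.comp B.equivFun.symm.bijective
  convert this using 1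
  funext p
  rw [Function.comp_apply, B.equivFun_symm_apply, map_sum]
  refine Finset.sum_congr rfl fun d _ => ?_
  rw [smul_eq, map_mul, hC, hB, map_prod]
  simp [hU, f]

end Groth.Agent.SymFree12
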